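import Groth.Agent.ConstUnitLib.Sections
import Groth.Prelude.Def_EtGm
import Mathlib.RingTheory.Polynomial.Cyclotomic.Roots
import Mathlib.RingTheory.RootsOfUnity.PrimitiveRoots

/-!
# `μ_n` is constant in presence of a primitive root of unity
-/

set_option autoImplicit false
set_option linter.style.haveILetI false
set_option linter.unusedSectionVars false
set_option backward.isDefEq.respectTransparency false
set_option backward.isDefEq.respectTransparency.types false
set_option synthInstance.maxHeartbeats 400000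
set_option maxHeartbeats 1000000

universe u

open CategoryTheory CategoryTheory.Limits AlgebraicGeometry Opposite Groth.Agent.EtShLib Polynomial

noncomputable section

namespace MuConstLib

theorem pow_eq_one_of_cyclotomic {R : Type*} [CommRing R] {n : ℕ} {ζ : R}
    (hζ : Polynomial.aeval ζ (cyclotomic n ℤ) = 0) : ζ ^ n = 1 := by
  obtain ⟨q, hq⟩ := cyclotomic.dvd_X_pow_sub_one n ℤ
  have h := congrArg (Polynomial.aeval ζ) hq
  rw [map_mul, hζ, zero_mul, map_sub, map_pow, map_one, aeval_X] at h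
  exact sub_eq_zero.1 h

theorem isPrimitiveRoot_map {R K : Type*} [CommRing R] [Field K] {n : ℕ} {ζ : R} (hn : IsUnit (n : R))
    (hζ : Polynomial.aeval ζ (cyclotomic n ℤ) = 0) (f : R →+* K) : IsPrimitiveRoot (f ζ) n := by
  haveI : NeZero (n : K) := ⟨by simpa using (hn.map f).ne_zero⟩
  refine isRoot_cyclotomic_iff.1 ?_
  have h := congrArg f hζ
  rw [map_zero, aeval_def, hom_eval₂] at h
  rw [IsRoot.def, ← map_cyclotomic n (Int.castRingHom K), eval_map]
  rwa [RingHom.ext_int (f.comp (algebraMap ℤ R)) (Int.castRingHom K)] at h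

theorem pow_injective {R : Type*} [CommRing R] [Nontrivial R] {n : ℕ} {ζ : R} (hn : IsUnit (n : R))
    (hζ : Polynomial.aeval ζ (cyclotomic n ℤ) = 0) {i j : ℕ} (hi : i < n) (hj : j < n) (e : ζ ^ i = ζ ^ j) :
    i = j := by
  obtain ⟨m, hm⟩ := Ideal.exists_maximal R
  let f := Ideal.Quotient.mk m
  letI := Ideal.Quotient.field m
  refine (isPrimitiveRoot_map hn hζ f).pow_inj hi hj ?_
  rw [← map_pow, ← map_pow, e]

theorem eq_pow_of_pow_eq_one {R : Type*} [CommRing R] [IsLocalRing R] {n : ℕ} {ζ : R} (hn : IsUnit (n : R))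
    (hζ : Polynomial.aeval ζ (cyclotomic n ℤ) = 0) {x : R} (hx : x ^ n = 1) : ∃ i < n, x = ζ ^ i := by
  have h0 : n ≠ 0 := fun h => not_isUnit_zero (M₀ := R) (by simpa [h] using hn)
  haveI : NeZero n := ⟨h0⟩
  let f := IsLocalRing.residue R
  obtain ⟨i, hi, he⟩ := (isPrimitiveRoot_map hn hζ f).eq_pow_of_pow_eq_one (ξ := f x)
    (by rw [← map_pow, hx, map_one])
  refine ⟨i, hi, sub_eq_zero.1 ?_⟩
  let a := ζ ^ i
  have ha : a ^ n = 1 := by rw [← pow_mul, mul_comm, pow_mul, pow_eq_one_of_cyclotomic hζ, one_pow]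
  have hmul := geom_sum₂_mul x a n
  rw [hx, ha, sub_self] at hmul
  have hau : IsUnit a := IsUnit.of_pow_eq_one ha h0
  have hu : IsUnit (∑ k ∈ Finset.range n, x ^ k * a ^ (n - 1 - k)) := by
    refine (IsLocalRing.notMem_maximalIdeal).1 fun hm => ?_
    have h1 := (IsLocalRing.residue_eq_zero_iff _).2 hm
    rw [map_sum] at h1
    have h2 : ∀ k ∈ Finset.range n, f (x ^ k * a ^ (n - 1 - k)) = f a ^ (n - 1) := fun k hk => by
      rw [map_mul, map_pow, map_pow, show f x = f a from he.symm.trans (map_pow f ζ i).symm, ← pow_add]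
      congr 1
      have := Finset.mem_range.1 hk
      omega
    rw [Finset.sum_congr rfl h2, Finset.sum_const, Finset.card_range, nsmul_eq_mul] at h1
    exact ((hn.map f).mul ((hau.map f).pow (n - 1))).ne_zero (by simpa using h1)
  exact (hu.mul_right_eq_zero).1 hmul

theorem aeval_map {R S : Type*} [CommRing R] [CommRing S] (f : R →+* S) {x : R} {q : ℤ[X]}
    (h : Polynomial.aeval x q = 0) : Polynomial.aeval (f x) q = 0 := by
  have := aeval_algHom_apply f.toIntAlgHom x q
  rw [h, map_zero] at this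
  exact this

theorem restr_eq {Y : Scheme.{u}} {O O₂ : Y.Opens} (i₁ i₂ : O ⟶ ⊤) {a b : Γ(Y, ⊤)}
    (h : Y.presheaf.map i₁.op a = Y.presheaf.map i₂.op b) (hle : O₂ ≤ O) (j : O₂ ⟶ ⊤) :
    Y.presheaf.map j.op b = Y.presheaf.map j.op a := by
  rw [show j = homOfLE hle ≫ i₂ from Subsingleton.elim _ _, op_comp, Functor.map_comp,
    CommRingCat.comp_apply, CommRingCat.comp_apply, ← h, show i₁ = i₂ from Subsingleton.elim _ _]

variable (X : Scheme.{u})

/-- The function underlying a section of `G_m`. -/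
def gmVal {W : X.Etale} (t : ToType ((EtCoh.Gm X).obj.obj (op W))) : Γ(W.left, ⊤) :=
  Units.val (show (Γ(W.left, ⊤))ˣ from (show ULift.{u + 1} (Additive (Γ(W.left, ⊤))ˣ) from t).down.toMul)

theorem gmVal_injective {W : X.Etale} : Function.Injective (gmVal X (W := W)) := fun s t h =>
  ULift.ext _ _ (Additive.toMul.injective (Units.ext h))

theorem gmVal_nsmul {W : X.Etale} (n : ℕ) (t : ToType ((EtCoh.Gm X).obj.obj (op W))) :
    gmVal X (n • t) = gmVal X t ^ n := rfl

theorem gmVal_map {W V : X.Etale} (k : V ⟶ W) (t : ToType ((EtCoh.Gm X).obj.obj (op W))) :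
    gmVal X ((EtCoh.Gm X).obj.map k.op t) = k.left.appTop.hom (gmVal X t) := rfl

/-- A root of unity as an element of the global sections of `G_m`. -/
def gmRoot (n : ℕ) [NeZero n] (ζ : Γ(X, ⊤)) (hζ : Polynomial.aeval ζ (cyclotomic n ℤ) = 0) :
    AddCommGrpCat.of (ULift.{u + 1} (ZMod n)) ⟶ (EtCore.gsec X).obj (EtCoh.Gm X) :=
  let v : (Γ((EtCoh.top X).left, ⊤))ˣ :=
    (IsUnit.of_pow_eq_one (pow_eq_one_of_cyclotomic hζ) (NeZero.ne n)).unit
  let z : ULift.{u + 1} (Additive (Γ((EtCoh.top X).left, ⊤))ˣ) := ULift.up (Additive.ofMul v)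
  AddCommGrpCat.ofHom ((ZMod.lift n ⟨zmultiplesHom _ z, by
    show ((n : ℤ) • z) = 0
    rw [natCast_zsmul]
    exact ULift.ext _ _ (congrArg Additive.ofMul (Units.ext (pow_eq_one_of_cyclotomic hζ)))⟩).comp
      AddEquiv.ulift.toAddMonoidHom)

theorem gmVal_gmRoot (n : ℕ) [NeZero n] (ζ : Γ(X, ⊤)) (hζ : Polynomial.aeval ζ (cyclotomic n ℤ) = 0)
    (m : ULift.{u + 1} (ZMod n)) : gmVal X (W := EtCoh.top X) (gmRoot X n ζ hζ m) = ζ ^ m.down.val := by
  obtain ⟨m⟩ := m
  have hm : m = ((m.val : ℤ) : ZMod n) := by rw [Int.cast_natCast, ZMod.natCast_rightInverse]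
  unfold gmRoot
  dsimp
  conv_lhs => rw [hm]
  refine (congrArg (gmVal X (W := EtCoh.top X)) ((AddMonoidHom.comp_apply _ _ _).trans
    (ZMod.lift_coe n _ (m.val : ℤ)))).trans ?_
  show gmVal X (W := EtCoh.top X) ((m.val : ℤ) • _) = _
  rw [natCast_zsmul, gmVal_nsmul]
  rfl

theorem mu_iso_const (n : ℕ) (hn : 1 ≤ n) (hu : IsUnit (n : Γ(X, ⊤))) (ζ : Γ(X, ⊤))
    (hζ : Polynomial.aeval ζ (cyclotomic n ℤ) = 0) : Nonempty (EtCoh.mu X n ≅ EtCoh.const X (ZMod n)) := by
  haveI : NeZero n := ⟨by omega⟩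
  let A := AddCommGrpCat.{u + 1}
  let f := gmRoot X n ζ hζ
  let ψ : EtCoh.const X (ZMod n) ⟶ EtCoh.Gm X := ((EtCore.constAdj X).homEquiv _ _).symm f
  let hT := EtCore.topIsTerminal X
  let η : AddCommGrpCat.of (ULift.{u + 1} (ZMod n)) ⟶ (EtCoh.const X (ZMod n)).obj.obj (op (EtCoh.top X)) :=
    (toSheafify X.smallEtaleTopology ((Functor.const (X.Etale)ᵒᵖ).obj _)).app (op (EtCoh.top X))
  have h : IsCst (EtCoh.const X (ZMod n)) (EtCoh.top X) η := ConstUnitLib.isCst_const _
  have hη : η ≫ ψ.hom.app (op (EtCoh.top X)) = f := by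
    have h' := ((EtCore.constAdj X).homEquiv _ _).apply_symm_apply f
    rw [Adjunction.homEquiv_unit] at h'
    refine Eq.trans ?_ h'
    simp [η, ψ, EtCore.constAdj, constantSheafAdj, constantPresheafAdj]
  have hw : ψ ≫ EtCoh.powMap X n = 0 := by
    apply ((EtCore.constAdj X).homEquiv _ _).injective
    rw [Adjunction.homEquiv_naturality_right, show ((EtCore.constAdj X).homEquiv _ _) ψ = f from
      ((EtCore.constAdj X).homEquiv _ _).apply_symm_apply f, Adjunction.homEquiv_unit]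
    ext m
    show (n • f m : ToType ((EtCore.gsec X).obj (EtCoh.Gm X))) = _
    rw [← map_nsmul, show n • m = 0 from ULift.ext _ _ (by
      show n • m.down = 0
      rw [nsmul_eq_mul, ZMod.natCast_self, zero_mul]), map_zero]
    simp
  have hval : ∀ (W : X.Etale) (m : ULift.{u + 1} (ZMod n)),
      gmVal X (ψ.hom.app (op W) (ConstUnitLib.cSec hT η W m)) = (W.hom.appTop.hom ζ) ^ m.down.val := fun W m => by
    have e : ψ.hom.app (op W) (ConstUnitLib.cSec hT η W m) =
        (EtCoh.Gm X).obj.map (hT.from W).op (f m) := by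
      refine (NatTrans.naturality_apply ψ.hom (hT.from W).op (η m)).trans ?_
      rw [← hη]
      rfl
    have hleft : (hT.from W).left = W.hom :=
      (Category.comp_id _).symm.trans (MorphismProperty.Over.w (hT.from W))
    rw [e, ← hleft]
    rw [gmVal_map, ← map_pow]
    exact congrArg _ (gmVal_gmRoot X n ζ hζ m)
  haveI : ∀ (Ω : Type u) [Field Ω] [IsSepClosed Ω] (ξ : Spec (CommRingCat.of Ω) ⟶ X),
      Mono ((stk (A := A) ξ).map ψ) := fun Ω _ _ ξ => by
    rw [AddCommGrpCat.mono_iff_injective]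
    intro p q e
    obtain ⟨W, w, x, rfl⟩ := exists_germ ξ p
    obtain ⟨V, k, v, y, hv, rfl⟩ := exists_germ_below ξ q W w
    subst hv
    obtain ⟨i, hi⟩ := (ConstUnitLib.bijective_germ_cSec (hT := hT) h (v.map k)).2 (germ (A := A) ξ (EtCoh.const X (ZMod n)) W (v.map k) x)
    obtain ⟨j, hj⟩ := (ConstUnitLib.bijective_germ_cSec (hT := hT) h v).2 (germ (A := A) ξ (EtCoh.const X (ZMod n)) V v y)
    dsimp only at hi hj
    rw [← hi, ← germ_res_apply, ConstUnitLib.cSec_res, ← hj] at e ⊢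
    obtain ⟨P, l, r, -, he⟩ := (germ_eq_iff ξ V v _ _).1
      ((germ_natural_apply ξ ψ V v _).symm.trans (e.trans (germ_natural_apply ξ ψ V v _)))
    have e2 : ψ.hom.app (op P) (ConstUnitLib.cSec hT η P i) = ψ.hom.app (op P) (ConstUnitLib.cSec hT η P j) := by
      rw [← ConstUnitLib.cSec_res hT η l, ← ConstUnitLib.cSec_res hT η l]
      exact (NatTrans.naturality_apply ψ.hom l.op _).trans (he.trans (NatTrans.naturality_apply ψ.hom l.op _).symm)
    haveI : Nontrivial Γ(P.left, ⊤) := ((P.left.presheaf.germ ⊤ r.pt trivial).hom).domain_nontrivial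
    have e3 := (hval P i).symm.trans ((congrArg (gmVal X (W := P)) e2).trans (hval P j))
    have hij : i = j := ULift.ext _ _ (ZMod.val_injective n (pow_injective
      (map_natCast P.hom.appTop.hom n ▸ hu.map P.hom.appTop.hom)
      (aeval_map _ hζ)
      (ZMod.val_lt _) (ZMod.val_lt _) e3))
    rw [hij]
  let S := ShortComplex.mk ψ (EtCoh.powMap X n) hw
  have hS : S.Exact := by
    refine (exact_iff_stalks S).2 fun Ω _ _ ξ => (ShortComplex.ab_exact_iff _).2 fun p hp => ?_
    obtain ⟨W, w, x, rfl⟩ := exists_germ (A := A) ξ p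
    have hp' : germ (A := A) ξ (EtCoh.Gm X) W w ((EtCoh.powMap X n).hom.app (op W) x) =
        germ (A := A) ξ (EtCoh.Gm X) W w 0 := by
      rw [map_zero, ← germ_natural_apply]
      exact hp
    obtain ⟨V, k, v, hv, he⟩ := (germ_eq_iff ξ W w _ _).1 hp'
    subst hv
    rw [map_zero, ← NatTrans.naturality_apply] at he
    rw [← germ_res_apply]
    generalize (EtCoh.Gm X).obj.map k.op x = y at he ⊢
    have hy : gmVal X y ^ n = 1 := (gmVal_nsmul X n y).symm.trans
      ((congrArg (gmVal X (W := V)) (show n • y = 0 from he)).trans rfl)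
    let g := (V.left.presheaf.germ ⊤ v.pt trivial).hom
    obtain ⟨i, hi, hxi⟩ := eq_pow_of_pow_eq_one (x := g (gmVal X y)) (ζ := g (V.hom.appTop.hom ζ))
      (map_natCast (g.comp V.hom.appTop.hom) n ▸ hu.map (g.comp V.hom.appTop.hom))
      (aeval_map g (aeval_map _ hζ))
      (by rw [← map_pow, hy, map_one])
    rw [← map_pow] at hxi
    obtain ⟨O, hO, i₁, i₂, hOe⟩ := V.left.presheaf.germ_eq (U := ⊤) (V := ⊤) v.pt trivial trivial _ _ hxi
    let O' : V.left.Opens := O
    let P : X.Etale := MorphismProperty.Over.mk ⊤ (O'.ι ≫ V.hom)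
      (MorphismProperty.IsStableUnderComposition.comp_mem _ _
        (inferInstanceAs (AlgebraicGeometry.Etale O'.ι)) V.prop)
    let q : P ⟶ V := MorphismProperty.Over.homMk O'.ι rfl
    obtain ⟨l, hl, -⟩ := Scheme.exists_fac_of_etale_of_isSepClosed O'.ι v.hom ⟨v.pt, hO⟩ rfl
    let r : Fib ξ P := Fib.mk l (by
      show l ≫ O'.ι ≫ V.hom = ξ
      rw [← Category.assoc, hl, Fib.w])
    have hr : r.map q = v := Fib.ext ((Fib.map_hom q r).trans hl)
    refine ⟨germ ξ (EtCoh.const X (ZMod n)) P r (ConstUnitLib.cSec hT η P (ULift.up (i : ZMod n))), ?_⟩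
    refine (germ_natural_apply ξ ψ P r _).trans ?_
    rw [← hr, ← germ_res_apply]
    refine congrArg (fun t => germ (A := A) ξ (EtCoh.Gm X) P r t) (gmVal_injective X ((hval P _).trans ?_))
    rw [gmVal_map]
    show ((O'.ι ≫ V.hom).appTop.hom ζ) ^ (i : ZMod n).val = O'.ι.appTop.hom (gmVal X y)
    rw [ZMod.val_natCast, Nat.mod_eq_of_lt hi, Scheme.Hom.comp_appTop, CommRingCat.comp_apply, ← map_pow]
    rw [Scheme.Opens.ι_appTop]
    exact restr_eq i₁ i₂ hOe (le_of_eq O'.ι_image_top) _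
  haveI : Mono ψ := (mono_iff_stalks ψ).2 fun Ω _ _ ξ => inferInstance
  exact ⟨(limit.isLimit (parallelPair (EtCoh.powMap X n) 0)).conePointUniqueUpToIso hS.fIsKernel⟩

end MuConstLib

end
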